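import Cfsg.Agent.Nodes.NormalForm
import Cfsg.Agent.Nodes.RGDLib
import Cfsg.Agent.Nodes.Sub
import Cfsg.Agent.Nodes.CardSup
import Cfsg.Agent.UGT.U2.FOne.QsRGD

-- merged: Cfsg.Agent.GenExc.Norm
section

/-!
# Groups with a root group datum: centralizers of subsets of the torus (helper3)

`S ⊆ T`, `E` the set of the roots `x` with `X x ≤ C(S)`, the other root groups meeting `C(S)` trivially (`EvenSet`);
`NI E` : the roots `x ∈ E` such that `x + y` is a root for some `y ∈ E`.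

* `cent_le_norm` : `C(S)` normalizes `⟨X x | x ∈ NI E⟩`.
-/

set_option autoImplicit false
set_option linter.unusedSectionVars false

namespace Cfsg.Agent.GenExc

open CoxeterSystem Cfsg.Agent.ChevalleyStructure.CoxeterGeom Cfsg.Agent.Tits.Roots Cfsg.Agent.Tits.Core
  Cfsg.Agent.Tits.Exchange Cfsg.Agent.Nodes.Reps Cfsg.Agent.Nodes.BNOf Cfsg.Agent.Nodes.StabComb
  Cfsg.Agent.Nodes.Bruhat Cfsg.Agent.Nodes.OppDec Cfsg.Agent.Nodes.RGDLib

variable {I W Y : Type*} [Fintype I] [DecidableEq I] [Group W] [Group Y] {M : CoxeterMatrix I}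
  {cs : CoxeterSystem M W} {A : I → I → ℤ} {h : IsCartan M A} {p : ℕ} {T : Subgroup Y} {n : I → Y}
  {X : (I → ℤ) → Subgroup Y}

/-- `E` is the set of the roots whose root groups commute with `S`; the others meet `C(S)` trivially. -/
structure EvenSet (cs : CoxeterSystem M W) (h : IsCartan M A) (X : (I → ℤ) → Subgroup Y) (S : Set Y)
    (E : Set (I → ℤ)) : Prop where
  root : ∀ x ∈ E, IsRoot cs h x
  neg : ∀ x ∈ E, -x ∈ E
  even : ∀ x ∈ E, X x ≤ Subgroup.centralizer S
  odd : ∀ x, IsRoot cs h x → x ∉ E → X x ⊓ Subgroup.centralizer S = ⊥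

/-- The roots `x ∈ E` with `x + y` a root for some `y ∈ E`. -/
def NI (cs : CoxeterSystem M W) (h : IsCartan M A) (E : Set (I → ℤ)) : Set (I → ℤ) :=
  {x | x ∈ E ∧ ∃ y ∈ E, IsRoot cs h (x + y)}

/-- Root groups of roots whose sum is not a root commute. -/
def CommOK (cs : CoxeterSystem M W) (h : IsCartan M A) (X : (I → ℤ) → Subgroup Y) : Prop :=
  ∀ x y, IsRoot cs h x → IsRoot cs h y → x ≠ -y → ¬ IsRoot cs h (x + y) → ∀ u ∈ X x, ∀ v ∈ X y, u * v = v * u

variable {S : Set Y} {E : Set (I → ℤ)}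

theorem NI.neg (hE : EvenSet cs h X S E) {x : I → ℤ} (hx : x ∈ NI cs h E) : -x ∈ NI cs h E := by
  obtain ⟨h1, y, hy, h2⟩ := hx
  refine ⟨hE.neg x h1, -y, hE.neg y hy, ?_⟩
  have : -x + -y = -(x + y) := by abel
  rw [this]; exact h2.neg

theorem mem_norm_of_comm {G : Type*} [Group G] {H : Subgroup G} {u : G} (h : ∀ v ∈ H, u * v = v * u) :
    u ∈ Subgroup.normalizer (H : Set G) := by
  refine Subgroup.mem_normalizer_iff.2 fun v => ⟨fun hv => ?_, fun hv => ?_⟩
  · rw [h v hv, mul_inv_cancel_right]; exact hv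
  · have h1 := h _ hv
    have h2 : u * v * u⁻¹ = v := by
      have h3 : u * (u * v * u⁻¹) = u * v := by rw [h1]; group
      exact mul_left_cancel h3
    rw [h2] at hv
    exact hv

theorem comm_Sup {S' : Set (I → ℤ)} {u : Y} (hc : ∀ z ∈ S', ∀ v ∈ X z, u * v = v * u) :
    ∀ v ∈ RGD.Sup X S', u * v = v * u := by
  have h1 : RGD.Sup X S' ≤ Subgroup.centralizer ({u} : Set Y) := by
    refine RGD.Sup_le fun z hz v hv => ?_
    rw [Subgroup.mem_centralizer_iff]
    rintro _ rfl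
    exact hc z hz v hv
  intro v hv
  exact Subgroup.mem_centralizer_iff.1 (h1 hv) u rfl

section

variable [Finite W] (R : RGD cs h p T n X)

include R

/-- An element of `W` with a representative in `C(S)` preserves `E`. -/
theorem EvenSet.act (hE : EvenSet cs h X S E) {w : W} {k : Y} (hk : Rp cs R.nsys w k)
    (hkS : k ∈ Subgroup.centralizer S) {x : I → ℤ} (hx : x ∈ E) : rep cs h w x ∈ E := by
  by_contra hcon
  have hxr := hE.root x hx
  have h1 := hE.odd _ (hxr.act w) hcon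
  apply X_ne_bot R (hxr.act w)
  rw [eq_bot_iff, ← h1]
  refine le_inf le_rfl ?_
  rw [← R.conj_rp hk hxr]
  intro u hu
  rw [mem_cj] at hu
  have h2 := hE.even x hx hu
  have h3 : u = k * (k⁻¹ * u * k) * k⁻¹ := by group
  rw [h3]
  exact mul_mem (mul_mem hkS h2) (inv_mem hkS)

theorem NI.act (hE : EvenSet cs h X S E) {w : W} {k : Y} (hk : Rp cs R.nsys w k)
    (hkS : k ∈ Subgroup.centralizer S) {x : I → ℤ} (hx : x ∈ NI cs h E) : rep cs h w x ∈ NI cs h E := by
  obtain ⟨h1, y, hy, h2⟩ := hx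
  refine ⟨hE.act R hk hkS h1, rep cs h w y, hE.act R hk hkS hy, ?_⟩
  rw [← map_add]
  exact h2.act w

/-- **`C(S)` normalizes `⟨X x | x ∈ NI E⟩`.** -/
theorem cent_le_norm (hS : S ⊆ T) (hG : GG cs h T X = ⊤) (hc : CommOK cs h X) (hE : EvenSet cs h X S E) :
    Subgroup.centralizer S ≤ Subgroup.normalizer (RGD.Sup X (NI cs h E) : Set Y) := by
  intro g hg
  obtain ⟨u, hu, w, k, hk, hkS, v, hv, rfl⟩ := Cfsg.Agent.Nodes.NormalForm.mem_centralizer R
    hS (by rw [hG]; trivial) hg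
  have h1 : RGD.Sup (fun x => X x ⊓ Subgroup.centralizer S) (RGD.Pos cs h) ≤
      Subgroup.normalizer (RGD.Sup X (NI cs h E) : Set Y) := by
    refine RGD.Sup_le fun x hx u hu => ?_
    by_cases hxE : x ∈ E
    · by_cases hxN : x ∈ NI cs h E
      · exact Subgroup.le_normalizer (RGD.le_Sup hxN hu.1)
      · apply mem_norm_of_comm
        refine comm_Sup fun y hy v hv => ?_
        refine hc x y hx.1 (hE.root y hy.1) ?_ ?_ u hu.1 v hv
        · rintro rfl
          exact hxN (NI.neg hE hy)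
        · intro hr
          exact hxN ⟨hxE, y, hy.1, hr⟩
    · have h2 := hE.odd x hx.1 hxE
      have h3 : u ∈ X x ⊓ Subgroup.centralizer S := hu
      rw [h2, Subgroup.mem_bot] at h3
      rw [h3]; exact one_mem _
  have h2 : k ∈ Subgroup.normalizer (RGD.Sup X (NI cs h E) : Set Y) := by
    have key : ∀ {w : W} {k : Y}, Rp cs R.nsys w k → k ∈ Subgroup.centralizer S →
        cj k (RGD.Sup X (NI cs h E)) ≤ RGD.Sup X (NI cs h E) := by
      intro w k hk hkS
      rw [RGD.cj_Sup]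
      refine iSup_le ?_
      rintro ⟨y, hy⟩
      rw [R.conj_rp hk (hE.root y hy.1)]
      exact RGD.le_Sup (NI.act R hE hk hkS hy)
    rw [mem_normalizer_iff_cj]
    apply le_antisymm (key hk hkS)
    have h3 := key hk.inv (inv_mem hkS)
    have h4 : cj k (cj k⁻¹ (RGD.Sup X (NI cs h E))) ≤ cj k (RGD.Sup X (NI cs h E)) := cj_mono k h3
    rwa [← cj_mul, mul_inv_cancel, cj_one] at h4
  exact mul_mem (mul_mem (h1 hu) h2) (h1 hv)

end

end Cfsg.Agent.GenExc

end

-- merged: Cfsg.Agent.GenExc.LeviQs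
section

/-!
# Quasisimple groups with a root group datum: centre and orders; Levi subgroups (helper3)

For a perfect group `Y` generated by the root groups of a root group datum with connected diagram, `T` solvable:
* `center_le_T` : `Z(Y) ≤ T`;
* `card_quot_factorization` : `|Y / Z(Y)|_p = |U|_p` (`U` is a Sylow `p`-subgroup), `card_U_sq_le` : `|U|² ≤ |Y / Z(Y)|`.

For an embedding `f : J ↪ I` of a subdiagram: `LR f` the roots supported on `J`, `HL f = ⟨X x | x ∈ LR f⟩`;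
* `isQuasisimple_HL` : `HL f` is quasisimple if perfect, `T` commutative, the subdiagram connected;
* `card_HL` : the two facts on orders.
-/

set_option autoImplicit false
set_option linter.unusedSectionVars false

namespace Cfsg.Agent.GenExc

open CoxeterSystem Cfsg.Agent.ChevalleyStructure.CoxeterGeom Cfsg.Agent.Tits.Roots Cfsg.Agent.Tits.Core
  Cfsg.Agent.Tits.Exchange Cfsg.Agent.Nodes.Reps Cfsg.Agent.Nodes.BNOf Cfsg.Agent.Nodes.StabComb
  Cfsg.Agent.Nodes.Bruhat Cfsg.Agent.Nodes.OppDec Cfsg.Agent.Nodes.RGDLib Cfsg.Agent.Nodes.SubComb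
  Cfsg.Agent.Nodes.Sub
open Cfsg.Agent.UGT.U2.FOne

section General

variable {I W Y : Type*} [Fintype I] [DecidableEq I] [Group W] [Group Y] {M : CoxeterMatrix I}
  {cs : CoxeterSystem M W} {A : I → I → ℤ} {h : IsCartan M A} {p : ℕ} {T : Subgroup Y} {n : I → Y}
  {X : (I → ℤ) → Subgroup Y}

variable [Finite W] (R : RGD cs h p T n X)

include R

/-- A normal subgroup contained in `B` lies in `T`. -/
theorem le_T_of_le_B (H : Subgroup Y) [hH : H.Normal] (hB : H ≤ RGD.B cs h T X) : H ≤ T := by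
  obtain ⟨k, hk⟩ := exists_rp cs R.nsys (w0 cs)
  have h1 : H ≤ BN cs h T X := by
    rw [← cj_B R hk]
    intro x hx
    have h2 : k⁻¹ * x * k ∈ H := by
      have := hH.conj_mem x hx k⁻¹
      rwa [inv_inv] at this
    have h3 : k * (k⁻¹ * x * k) * k⁻¹ ∈ cj k (RGD.B cs h T X) := conj_mem_cj.2 (hB h2)
    have h4 : k * (k⁻¹ * x * k) * k⁻¹ = x := by group
    rwa [h4] at h3
  exact (le_inf hB h1).trans (B_inf_BN R).le

theorem commutator_ne_bot' [Nonempty I] (hperf : commutator Y = ⊤) : Subgroup.center Y ≠ ⊤ := by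
  intro h1
  have h2 : commutator Y = ⊥ := by
    rw [commutator_def, ← h1]
    rw [Subgroup.commutator_eq_bot_iff_le_centralizer]
    exact (Subgroup.center_le_centralizer _)
  rw [h2] at hperf
  obtain ⟨i⟩ := (inferInstance : Nonempty I)
  obtain ⟨u, hu, hu1⟩ := exists_ne_one R i
  have h3 : u ∈ (⊥ : Subgroup Y) := by rw [hperf]; trivial
  exact hu1 (Subgroup.mem_bot.1 h3)

/-- **The centre lies in the torus.** -/
theorem center_le_T [Finite Y] [Nonempty I] [Fact p.Prime] (hG : G1 cs h X = ⊤)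
    (hconn : ∀ J : Set I, J.Nonempty → J ≠ Set.univ → ∃ a ∈ J, ∃ b, b ∉ J ∧ M a b ≠ 2)
    (hT : Group.IsSolvable T) (hperf : commutator Y = ⊤) : Subgroup.center Y ≤ T := by
  have hgen := rgd_gen_of_G1 R hG
  refine le_T_of_le_B R _ ?_
  exact (QsRGD.eq_top_or_le_B (R.bnPair hgen) (R.bnPair_irreducible hgen hconn)
    (Cfsg.Agent.FixBN.FieldRGD.isSolvable_B R hT) hperf (Subgroup.center Y)).resolve_left
      (commutator_ne_bot' R hperf)

/-- `U` is a Sylow `p`-subgroup -/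
theorem card_factorization [Finite Y] [Fact p.Prime] (hG : G1 cs h X = ⊤) :
    p ^ (Nat.card Y).factorization p = Nat.card (RGD.Sup X (RGD.Pos cs h)) := by
  have hGG : GG cs h T X = ⊤ := by
    rw [eq_top_iff, ← hG]
    exact le_sup_right
  obtain ⟨P, hP⟩ := (R.isPGroup_Upos).exists_le_sylow
  have h1 := Cfsg.Agent.Nodes.NormalForm.eq_U_of_isPGroup R P.isPGroup' hP (by rw [hGG]; exact le_top)
  rw [← h1]
  exact (P.card_eq_multiplicity).symm

theorem card_UN : Nat.card (UN cs h X) = Nat.card (RGD.Sup X (RGD.Pos cs h)) := by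
  obtain ⟨k, hk⟩ := exists_rp cs R.nsys (w0 cs)
  rw [← cj_U R hk]
  exact Cfsg.Agent.Nodes.CardSup.card_cj _

theorem card_quot_factorization [Finite Y] [Fact p.Prime] (hG : G1 cs h X = ⊤) (hZ : Subgroup.center Y ≤ T) :
    p ^ (Nat.card (Y ⧸ Subgroup.center Y)).factorization p = Nat.card (RGD.Sup X (RGD.Pos cs h)) := by
  rw [← card_factorization R hG]
  congr 1
  have h1 := Subgroup.card_eq_card_quotient_mul_card_subgroup (Subgroup.center Y)
  have h2 : Nat.card (Subgroup.center Y) ≠ 0 := Nat.card_pos.ne'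
  have h3 : Nat.card (Y ⧸ Subgroup.center Y) ≠ 0 := Nat.card_pos.ne'
  rw [h1, Nat.factorization_mul h3 h2, Finsupp.add_apply]
  have h4 : (Nat.card (Subgroup.center Y)).Coprime p :=
    Nat.Coprime.coprime_dvd_left (Subgroup.card_dvd_of_le hZ) R.tcop
  have h5 : (Nat.card (Subgroup.center Y)).factorization p = 0 :=
    Nat.factorization_eq_zero_of_not_dvd ((Nat.Prime.coprime_iff_not_dvd Fact.out).1 h4.symm)
  rw [h5, add_zero]

theorem card_U_sq_le [Finite Y] (hZ : Subgroup.center Y ≤ T) :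
    Nat.card (RGD.Sup X (RGD.Pos cs h)) * Nat.card (RGD.Sup X (RGD.Pos cs h)) ≤
      Nat.card (Y ⧸ Subgroup.center Y) := by
  conv_lhs => rw [← card_UN R]
  conv_lhs => arg 2; rw [card_UN R]
  rw [← Nat.card_prod]
  refine Nat.card_le_card_of_injective (fun x : ↥(UN cs h X) × ↥(RGD.Sup X (RGD.Pos cs h)) =>
    (QuotientGroup.mk ((x.1 : Y) * (x.2 : Y)) : Y ⧸ Subgroup.center Y)) ?_
  rintro ⟨⟨a, ha⟩, ⟨b, hb⟩⟩ ⟨⟨a', ha'⟩, ⟨b', hb'⟩⟩ e
  have e1 : (a * b)⁻¹ * (a' * b') ∈ Subgroup.center Y := QuotientGroup.eq.1 e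
  have hc := Subgroup.mem_center_iff.1 e1
  have e2 : a⁻¹ * a' * (b' * b⁻¹) = (a * b)⁻¹ * (a' * b') := by
    have h1 := hc b
    have h2 : a⁻¹ * a' * (b' * b⁻¹) = b * ((a * b)⁻¹ * (a' * b')) * b⁻¹ := by group
    rw [h2, h1]; group
  have e3 : b' * b⁻¹ = (a⁻¹ * a')⁻¹ * ((a * b)⁻¹ * (a' * b')) := by rw [← e2]; group
  have h1 : b' * b⁻¹ ∈ BN cs h T X := by
    rw [e3]
    exact mul_mem (inv_mem (UN_le_BN (mul_mem (inv_mem ha) ha'))) (T_le_BN (hZ e1))
  have h2 := eq_one_of_mem_U_of_mem_BN R (mul_mem hb' (inv_mem hb)) h1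
  have h3 : b' = b := mul_inv_eq_one.1 h2
  subst h3
  have e4 : a⁻¹ * a' ∈ T := by
    have : a⁻¹ * a' = (a * b')⁻¹ * (a' * b') := by rw [← e2]; group
    rw [this]; exact hZ e1
  have h5 := eq_one_of_mem_UN_of_mem_B R (mul_mem (inv_mem ha) ha') (RGD.T_le_B e4)
  have h6 : a' = a := (inv_mul_eq_one.1 h5).symm
  subst h6
  rfl

end General

section Levi

variable {I W Y : Type*} [Fintype I] [DecidableEq I] [Group W] [Group Y] {M : CoxeterMatrix I}
  {cs : CoxeterSystem M W} {A : I → I → ℤ} {h : IsCartan M A} {p : ℕ} {T : Subgroup Y} {n : I → Y}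
  {X : (I → ℤ) → Subgroup Y}
  {J : Type*} [Fintype J] [DecidableEq J] (f : J ↪ I)

/-- The roots supported on `J`. -/
def LR (cs : CoxeterSystem M W) (h : IsCartan M A) (f : J ↪ I) : Set (I → ℤ) :=
  {x | IsRoot cs h x ∧ ∀ k, (∀ j, f j ≠ k) → x k = 0}

/-- The Levi subgroup (derived) of `J`. -/
def HL (cs : CoxeterSystem M W) (h : IsCartan M A) (X : (I → ℤ) → Subgroup Y) (f : J ↪ I) : Subgroup Y :=
  RGD.Sup X (LR cs h f)

theorem X_le_HL {x : I → ℤ} (hx : x ∈ LR cs h f) : X x ≤ HL cs h X f := RGD.le_Sup hx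

theorem LR_neg {x : I → ℤ} (hx : x ∈ LR cs h f) : -x ∈ LR cs h f :=
  ⟨hx.1.neg, fun k hk => by rw [Pi.neg_apply, hx.2 k hk, neg_zero]⟩

theorem sr_mem_LR (j : J) : sr (f j) ∈ LR cs h f :=
  ⟨isRoot_sr cs h (f j), fun _ hk => sr_ne (hk j).symm⟩

/-- The Coxeter system of the subdiagram. -/
noncomputable abbrev csL (M : CoxeterMatrix I) (f : J ↪ I) : CoxeterSystem (leviMatrix f M) (leviMatrix f M).Group :=
  (leviMatrix f M).toCoxeterSystem

theorem isRoot_iota [Finite W] {c : J → ℤ} : IsRoot (csL M f) (levi_isCartan f h) c ↔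
    IsRoot cs h (iota (fun j => sr (f j)) c) := by
  constructor
  · intro hc
    exact (levi_subSys (cs := cs) (h := h) f).isRoot_iota hc
  · intro hc
    refine (levi_subSys (cs := cs) (h := h) f).isRoot_of_iota (csL M f) (levi_isCartan f h) ?_ hc
    intro c hc
    obtain ⟨d, hd, hs⟩ := levi_base (cs := cs) (h := h) f _ hc 1 one_pos c (one_smul _ _)
    rwa [(levi_subSys (cs := cs) (h := h) f).iota_injective hd]

theorem iota_mem_LR [Finite W] {c : J → ℤ} (hc : IsRoot (csL M f) (levi_isCartan f h) c) :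
    iota (fun j => sr (f j)) c ∈ LR cs h f :=
  ⟨(isRoot_iota (cs := cs) (h := h) f).1 hc, fun _ hk => iota_levi_apply_ne f c hk⟩

theorem G1_HL [Finite W] : G1 (csL M f) (levi_isCartan f h) (fun c => X (iota (fun j => sr (f j)) c)) =
    HL cs h X f := by
  apply le_antisymm
  · exact RGD.Sup_le fun c hc => X_le_HL f (iota_mem_LR (cs := cs) f hc)
  · refine RGD.Sup_le ?_
    rintro z ⟨hz, h0⟩
    have h1 := eq_iota_levi f h0
    have h2 : IsRoot cs h (iota (fun j => sr (f j)) (fun j => z (f j))) := by rw [← h1]; exact hz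
    have h3 : X (iota (fun j => sr (f j)) (fun j => z (f j))) ≤ _ := RGD.le_Sup
      (X := fun c => X (iota (fun j => sr (f j)) c)) (S := {x | IsRoot (csL M f) (levi_isCartan f h) x})
      ((isRoot_iota (cs := cs) f).2 h2)
    rw [h1]
    exact h3

variable [Finite W] (R : RGD cs h p T n X)

include R in
/-- The root group datum of the Levi subgroup. -/
theorem rgd_HL (hn : ∀ j, n (f j) ∈ HL cs h X f) :
    RGD (csL M f) (levi_isCartan f h) p (T.subgroupOf (HL cs h X f)) (fun j => (⟨n (f j), hn j⟩ : ↥(HL cs h X f)))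
      (fun c => (X (iota (fun j => sr (f j)) c)).subgroupOf (HL cs h X f)) :=
  rgd_restrict (rgd_levi R f (csL M f)) (HL cs h X f) (fun _ hc => X_le_HL f (iota_mem_LR (cs := cs) f hc)) hn

theorem G1_HL_top : G1 (csL M f) (levi_isCartan f h)
    (fun c => (X (iota (fun j => sr (f j)) c)).subgroupOf (HL cs h X f)) = ⊤ := by
  have h1 := iSup_subgroupOf (K := HL cs h X f) (fun c : {c | IsRoot (csL M f) (levi_isCartan f h) c} =>
    X (iota (fun j => sr (f j)) c.1)) (fun c => X_le_HL f (iota_mem_LR (cs := cs) f c.2))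
  have h2 : (⨆ c : {c | IsRoot (csL M f) (levi_isCartan f h) c}, X (iota (fun j => sr (f j)) c.1)) =
    HL cs h X f := G1_HL f
  rw [h2, Subgroup.subgroupOf_self] at h1
  exact h1.symm

include cs h in
theorem finite_WL : Finite (leviMatrix f M).Group :=
  (levi_subSys (cs := cs) (h := h) f).finite (csL M f) (levi_isCartan f h)

theorem perfect_HL (hperf : ∀ x ∈ LR cs h f, X x ≤ ⁅HL cs h X f, HL cs h X f⁆) :
    commutator ↥(HL cs h X f) = ⊤ := by
  apply Subgroup.map_injective (HL cs h X f).subtype_injective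
  rw [Subgroup.map_subtype_commutator, ← MonoidHom.range_eq_map, Subgroup.range_subtype]
  apply le_antisymm
  · exact Subgroup.commutator_le_self _
  · conv_lhs => unfold HL
    exact RGD.Sup_le fun z hz => hperf z hz

theorem solvable_T (hT : ∀ a ∈ T, ∀ b ∈ T, a * b = b * a) : Group.IsSolvable ↥(T.subgroupOf (HL cs h X f)) := by
  refine Group.isSolvable_of_comm fun a b => ?_
  apply Subtype.ext
  apply Subtype.ext
  exact hT _ (Subgroup.mem_subgroupOf.1 a.2) _ (Subgroup.mem_subgroupOf.1 b.2)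

include R in
/-- **The Levi subgroup is quasisimple.** -/
theorem isQuasisimple_HL [Finite Y] [Nonempty J] [Fact p.Prime] (hn : ∀ j, n (f j) ∈ HL cs h X f)
    (hconn : ∀ S : Set J, S.Nonempty → S ≠ Set.univ → ∃ a ∈ S, ∃ b, b ∉ S ∧ M (f a) (f b) ≠ 2)
    (hT : ∀ a ∈ T, ∀ b ∈ T, a * b = b * a) (hperf : ∀ x ∈ LR cs h f, X x ≤ ⁅HL cs h X f, HL cs h X f⁆) :
    Cfsg.IsQuasisimple ↥(HL cs h X f) := by
  have : Finite (leviMatrix f M).Group := finite_WL (cs := cs) (h := h) f
  exact QsRGD.isQuasisimple_of_rgd (rgd_HL f R hn) (G1_HL_top f) hconn (solvable_T f hT) (perfect_HL f hperf)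

include R in
/-- **Orders for the Levi subgroup**: `s` the set of the positive roots of the subdiagram, all root groups of order
`q`. -/
theorem card_HL [Finite Y] [Nonempty J] [Fact p.Prime] (hn : ∀ j, n (f j) ∈ HL cs h X f)
    (hconn : ∀ S : Set J, S.Nonempty → S ≠ Set.univ → ∃ a ∈ S, ∃ b, b ∉ S ∧ M (f a) (f b) ≠ 2)
    (hT : ∀ a ∈ T, ∀ b ∈ T, a * b = b * a) (hperf : ∀ x ∈ LR cs h f, X x ≤ ⁅HL cs h X f, HL cs h X f⁆)
    (s : Finset (J → ℤ)) (hs : ∀ c, c ∈ s ↔ IsRoot (csL M f) (levi_isCartan f h) c ∧ 0 ≤ c) {m : ℕ}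
    (hcard : ∏ c ∈ s, Nat.card (X (iota (fun j => sr (f j)) c)) = m) :
    p ^ (Nat.card (↥(HL cs h X f) ⧸ Subgroup.center ↥(HL cs h X f))).factorization p = m ∧
    m * m ≤ Nat.card (↥(HL cs h X f) ⧸ Subgroup.center ↥(HL cs h X f)) := by
  have : Finite (leviMatrix f M).Group := finite_WL (cs := cs) (h := h) f
  have R' := rgd_HL f R hn
  have hZ := center_le_T R' (G1_HL_top f) hconn (solvable_T f hT) (perfect_HL f hperf)
  have hpos : (s : Set (J → ℤ)) = RGD.Pos (csL M f) (levi_isCartan f h) := by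
    ext c
    rw [Finset.mem_coe, hs]
    rfl
  have h1 : Nat.card (RGD.Sup (fun c => (X (iota (fun j => sr (f j)) c)).subgroupOf (HL cs h X f))
      (RGD.Pos (csL M f) (levi_isCartan f h))) = m := by
    rw [← hpos, Cfsg.Agent.Nodes.CardSup.card_sup R' (by rw [hpos]), ← hcard]
    · refine Finset.prod_congr rfl fun c hc => ?_
      exact Nat.card_congr (Subgroup.subgroupOfEquivOfLe
        (X_le_HL f (iota_mem_LR (cs := cs) f ((hs c).1 hc).1))).toEquiv
    · rw [hpos]
      rintro x hx y hy z ⟨hz, k, a, b, hk, ha, hb, he⟩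
      refine ⟨hz, fun i => ?_⟩
      have h2 := congrFun he i
      simp only [Pi.smul_apply, Pi.add_apply, smul_eq_mul] at h2
      have h3 : 0 ≤ k * z i := by
        rw [h2]
        exact add_nonneg (mul_nonneg ha.le (hx.2 i)) (mul_nonneg hb.le (hy.2 i))
      exact nonneg_of_mul_nonneg_right h3 hk
  constructor
  · rw [card_quot_factorization R' (G1_HL_top f) hZ, h1]
  · have h2 := card_U_sq_le R' hZ
    rwa [h1] at h2

end Levi

end Cfsg.Agent.GenExc

end
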