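import Mathlib
import Cfsg.Agent.GenExc.Main

/-!
# `F₄(q)`, `E₆(q)`, `E₇(q)`, `E₈(q)`, `q` odd: the data (helper3)

`compData_F4`, ..., `compData_E8` : `CompData` with `N = 9, 15, 30, 63`: the involution `z` of the long root `SL₂` of the
highest root, and the components `Sp₆(q)`, `SL₆(q) / *`, `Spin₁₂(q)`, `E₇(q)` of its centralizer.
-/

set_option autoImplicit false

namespace Cfsg.Agent.GenExc.Chev

open Cfsg Cfsg.Lie Cfsg.Agent.Nodes.RGDChev

theorem isType_F4 : IsType chevF4 4 CoxeterMatrix.F₄ := by simp [IsType, typeList]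
theorem isType_E6 : IsType chevE6 6 CoxeterMatrix.E₆ := by simp [IsType, typeList]
theorem isType_E7 : IsType chevE7 7 CoxeterMatrix.E₇ := by simp [IsType, typeList]
theorem isType_E8 : IsType chevE8 8 CoxeterMatrix.E₈ := by simp [IsType, typeList]

/-! ### `F₄` -/

def fF4 : Fin 3 ↪ Fin 4 := ⟨![0, 1, 2], by decide⟩
def gF4 : Fin 2 ↪ Fin 4 := ⟨![1, 2], by decide⟩

theorem subF4 : SubD chevF4 (m := 2) fF4 [[0, 2]] [3] [0, 1, 2] where
  hJc := by decide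
  hJs := by decide
  chk := ⟨[(47, [0, 1, 1, 2, 2, 2, 3, 3])], by decide +kernel⟩
  perf := ⟨[(6, 10, 14), (17, 10, 33), (22, 12, 34), (25, 13, 35), (30, 14, 37), (41, 33, 37)], by decide +kernel⟩
  par := ⟨![0, 0, 1], by decide +kernel⟩

theorem subF4' : SubD chevF4 (m := 1) gF4 [[0, 2], [0, 1, 2]] [0, 3] [1, 2] where
  hJc := by decide
  hJs := by decide
  chk := ⟨[(41, [0, 1, 2]), (47, [0, 1, 1, 2, 2, 2, 3, 3])], by decide +kernel⟩
  perf := ⟨[(17, 19, 20), (22, 19, 27), (25, 20, 28), (30, 27, 28)], by decide +kernel⟩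
  par := ⟨![0, 0], by decide +kernel⟩

/-! ### `E₆` -/

def fE6 : Fin 5 ↪ Fin 6 := ⟨![0, 2, 3, 4, 5], by decide⟩
def gE6 : Fin 3 ↪ Fin 6 := ⟨![2, 3, 4], by decide⟩

theorem subE6 : SubD chevE6 (m := 4) fE6 [[0, 3, 5]] [1] [0, 2, 3, 4, 5] where
  hJc := by decide
  hJs := by decide
  chk := ⟨[(71, [0, 1, 1, 2, 2, 3, 3, 3, 4, 4, 5])], by decide +kernel⟩
  perf := ⟨[], by decide +kernel⟩
  par := ⟨![0, 0, 1, 2, 3], by decide +kernel⟩

theorem subE6' : SubD chevE6 (m := 2) gE6 [[0, 3, 5], [0, 2, 3, 4, 5]] [0, 1, 5] [2, 3, 4] where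
  hJc := by decide
  hJs := by decide
  chk := ⟨[(60, [0, 2, 3, 4, 5]), (71, [0, 1, 1, 2, 2, 3, 3, 3, 4, 4, 5])], by decide +kernel⟩
  perf := ⟨[], by decide +kernel⟩
  par := ⟨![0, 0, 1], by decide +kernel⟩

/-! ### `E₇` -/

def fE7 : Fin 6 ↪ Fin 7 := ⟨![1, 3, 2, 4, 5, 6], by decide⟩
def gE7 : Fin 4 ↪ Fin 7 := ⟨![1, 3, 2, 4], by decide⟩

theorem subE7 : SubD chevE7 (m := 5) fE7 [[2, 4, 6]] [0] [1, 2, 3, 4, 5, 6] where
  hJc := by decide
  hJs := by decide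
  chk := ⟨[(125, [0, 0, 1, 1, 2, 2, 2, 3, 3, 3, 3, 4, 4, 4, 5, 5, 6])], by decide +kernel⟩
  perf := ⟨[], by decide +kernel⟩
  par := ⟨![0, 0, 1, 1, 3, 4], by decide +kernel⟩

theorem subE7' : SubD chevE7 (m := 3) gE7 [[2, 4, 6], [1, 2, 6]] [0, 5, 6] [1, 2, 3, 4] where
  hJc := by decide
  hJs := by decide
  chk := ⟨[(63, [6]), (92, [1, 2, 3, 3, 4, 4, 5, 5, 6]), (125, [0, 0, 1, 1, 2, 2, 2, 3, 3, 3, 3, 4, 4, 4, 5, 5, 6])],
    by decide +kernel⟩
  perf := ⟨[], by decide +kernel⟩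
  par := ⟨![0, 0, 1, 1], by decide +kernel⟩

/-! ### `E₈` -/

def fE8 : Fin 7 ↪ Fin 8 := ⟨![0, 2, 3, 1, 4, 5, 6], by decide⟩
def gE8 : Fin 6 ↪ Fin 8 := ⟨![1, 3, 2, 4, 5, 6], by decide⟩

theorem subE8 : SubD chevE8 (m := 6) fE8 [[1, 4, 6]] [7] [0, 1, 2, 3, 4, 5, 6] where
  hJc := by decide
  hJs := by decide
  chk := ⟨[(239, [0, 0, 1, 1, 1, 2, 2, 2, 2, 3, 3, 3, 3, 3, 3, 4, 4, 4, 4, 4, 5, 5, 5, 5, 6, 6, 6, 7, 7])],
    by decide +kernel⟩
  perf := ⟨[], by decide +kernel⟩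
  par := ⟨![0, 0, 1, 2, 2, 4, 5], by decide +kernel⟩

theorem subE8' : SubD chevE8 (m := 5) gE8 [[1, 4, 6], [2, 4, 6]] [0, 7] [1, 2, 3, 4, 5, 6] where
  hJc := by decide
  hJs := by decide
  chk := ⟨[(226, [0, 0, 1, 1, 2, 2, 2, 3, 3, 3, 3, 4, 4, 4, 5, 5, 6]),
    (239, [0, 0, 1, 1, 1, 2, 2, 2, 2, 3, 3, 3, 3, 3, 3, 4, 4, 4, 4, 4, 5, 5, 5, 5, 6, 6, 6, 7, 7])], by decide +kernel⟩
  perf := ⟨[], by decide +kernel⟩
  par := ⟨![0, 0, 1, 1, 3, 4], by decide +kernel⟩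

section

variable {K : Type} [Field K] [Finite K] (p : ℕ) [Fact p.Prime] [CharP K p] (h2 : (2 : K) ≠ 0)

include h2

theorem compData_F4 : CompData p (Nat.card K) 9 ↥(chevF4.group K) :=
  compData isType_F4 p h2 subF4 subF4' (by decide) (by decide) (by decide +kernel) (by decide +kernel)
    (a := [0]) (b := [1]) (c := [2]) (by decide +kernel) (by decide +kernel)

theorem compData_E6 : CompData p (Nat.card K) 15 ↥(chevE6.group K) :=
  compData isType_E6 p h2 subE6 subE6' (by decide) (by decide) (by decide +kernel) (by decide +kernel)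
    (a := [0]) (b := [1]) (c := [2]) (by decide +kernel) (by decide +kernel)

theorem compData_E7 : CompData p (Nat.card K) 30 ↥(chevE7.group K) :=
  compData isType_E7 p h2 subE7 subE7' (by decide) (by decide) (by decide +kernel) (by decide +kernel)
    (a := [0]) (b := [1]) (c := [2]) (by decide +kernel) (by decide +kernel)

theorem compData_E8 : CompData p (Nat.card K) 63 ↥(chevE8.group K) :=
  compData isType_E8 p h2 subE8 subE8' (by decide) (by decide) (by decide +kernel) (by decide +kernel)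
    (a := [0]) (b := [1]) (c := [2]) (by decide +kernel) (by decide +kernel)

end

end Cfsg.Agent.GenExc.Chev
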