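import Mathlib
import Cfsg.Agent.GenExc.Main
import Cfsg.Agent.UGT.U2.FOne.TwESixEnd

/-!
# `²E₆(q)`, `q` odd: the data (helper3)

`compData` : `CompData p q 15 ²E₆(q)`: the involution `z` of the long root `SL₂(q)` of the highest root and the component
`SU₆(q) / *` of its centralizer.
-/

set_option autoImplicit false
set_option linter.unusedSectionVars false
set_option maxHeartbeats 400000

namespace Cfsg.Agent.GenExc.TwE

open CoxeterSystem Cfsg.Agent.ChevalleyStructure.CoxeterGeom Cfsg.Agent.Tits.Roots Cfsg.Agent.Tits.Core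
  Cfsg.Agent.Tits.RootComb Cfsg.Agent.Nodes.Comb Cfsg.Agent.Nodes.Reps Cfsg.Agent.Nodes.BNOf
  Cfsg.Agent.Nodes.RGDTwGen Cfsg.Agent.Nodes.RGDChev Cfsg.Agent.Nodes.RGDFold
  Cfsg.Agent.Nodes.RGDFoldSL Cfsg.Agent.Nodes.RGDTwE6 Cfsg.Agent.Nodes.RGDTwTab Cfsg.Agent.Nodes.RGDTwCoordE6
  Cfsg.Agent.Nodes.RGDTwCoord Cfsg.Agent.Nodes.RGDTwComE6 Cfsg.Agent.Nodes.RGDTwActE6
  Cfsg.Agent.Nodes.RGDLib Cfsg.Agent.Nodes.SubComb Cfsg.Agent.Nodes.Sub Cfsg.Agent.Nodes.Bruhat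
open Cfsg.Lie Cfsg.Agent.ChevalleyStructure
  Cfsg.Agent.ChevalleyStructure.TwistedU Cfsg.Agent.ChevalleyStructure.TwistedFix
open Cfsg.Agent.ChevalleyStructure.SL2Hom (up lo)
open Cfsg.Agent.KFacts.TwESix.Comb (bf rts mem_rts bf_rep rho rho_root bf_rho pairing_eq)
open Cfsg.Agent.Nodes.RGDTwNode.E6 (nodeOK eps_one rest)
open Cfsg.Agent.UGT.U2.FOne (RA)
open Cfsg.Agent.UGT.U2.FOne.TwESix
open scoped commutatorElement MatrixGroups

variable {K : Type} [Field K] [Fintype K] {q : ℕ} {φ : K →+* K} (hφ : ∀ x, φ x = x ^ q)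
  (hqq : ∀ t : K, (t ^ q) ^ q = t) {W : Type*} [Group W] {cs : CoxeterSystem CoxeterMatrix.F₄ W} {z w : Fin 4 → ℤ}

/-! ### Products of fundamental involutions -/

/-- `∏_{i ∈ S} h_i(-1)` -/
noncomputable def zL (S : List (Fin 4)) : ↥(twistedE6 K q) := (S.map (zn hφ hqq)).prod

/-- `∑_{i ∈ S} ⟨z, α_i^∨⟩` -/
def cL (S : List (Fin 4)) (z : Fin 4 → ℤ) : ℤ := (S.map fun i => pairing A i z).sum

theorem zL_cons (i : Fin 4) (S : List (Fin 4)) : zL hφ hqq (i :: S) = zn hφ hqq i * zL hφ hqq S := by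
  unfold zL
  rw [List.map_cons, List.prod_cons]

theorem zL_append (S S' : List (Fin 4)) : zL hφ hqq (S ++ S') = zL hφ hqq S * zL hφ hqq S' := by
  unfold zL
  rw [List.map_append, List.prod_append]

theorem cL_cons (i : Fin 4) (S : List (Fin 4)) (z : Fin 4 → ℤ) : cL (i :: S) z = pairing A i z + cL S z := by
  unfold cL
  rw [List.map_cons, List.sum_cons]

theorem zL_mem (S : List (Fin 4)) : zL hφ hqq S ∈ T K q := by
  induction S with
  | nil => exact one_mem _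
  | cons i S ih => rw [zL_cons]; exact mul_mem (zn_mem hφ hqq i) ih

theorem zL_comm (S S' : List (Fin 4)) : zL hφ hqq S * zL hφ hqq S' = zL hφ hqq S' * zL hφ hqq S :=
  comm_T (zL_mem hφ hqq S) (zL_mem hφ hqq S')

theorem zL_sq (S : List (Fin 4)) : zL hφ hqq S * zL hφ hqq S = 1 := by
  induction S with
  | nil => exact one_mul _
  | cons i S ih =>
    rw [zL_cons]
    have h1 := comm_T (zn_mem hφ hqq i) (zL_mem hφ hqq S)
    calc zn hφ hqq i * zL hφ hqq S * (zn hφ hqq i * zL hφ hqq S)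
        = zn hφ hqq i * (zL hφ hqq S * zn hφ hqq i) * zL hφ hqq S := by group
      _ = (zn hφ hqq i * zn hφ hqq i) * (zL hφ hqq S * zL hφ hqq S) := by rw [← h1]; group
      _ = 1 := by rw [zn_sq, ih, one_mul]

theorem conj_zL (S : List (Fin 4)) (hz : IsRoot cs isCartan z) {a : K} (ha : Ok chevE6 J O φ z a) :
    zL hφ hqq S * x φ q z a * (zL hφ hqq S)⁻¹ = x φ q z ((-1 : K) ^ cL S z * a) := by
  induction S with
  | nil =>
    have h1 : zL hφ hqq [] = 1 := rfl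
    have h2 : cL [] z = 0 := rfl
    rw [h1, h2, zpow_zero, one_mul, one_mul, inv_one, mul_one]
  | cons i S ih =>
    rw [zL_cons, cL_cons]
    have e : zn hφ hqq i * zL hφ hqq S * x φ q z a * (zn hφ hqq i * zL hφ hqq S)⁻¹ =
        zn hφ hqq i * (zL hφ hqq S * x φ q z a * (zL hφ hqq S)⁻¹) * (zn hφ hqq i)⁻¹ := by group
    rw [e, ih, conj_zn hφ hqq hz i (Ok.mul (ok_neg_one_zpow z _) ha), ← mul_assoc,
      zpow_add₀ (neg_ne_zero.2 one_ne_zero)]

theorem zL_even (S : List (Fin 4)) (hz : IsRoot cs isCartan z) (h : cL S z % 2 = 0) {u : ↥(twistedE6 K q)}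
    (hu : u ∈ X φ q z) : zL hφ hqq S * u = u * zL hφ hqq S := by
  obtain ⟨a, ha, rfl⟩ := (mem_X hφ hqq hz _).1 hu
  have h1 := conj_zL hφ hqq S hz ha
  rw [neg_one_zpow_even h, one_mul, mul_inv_eq_iff_eq_mul] at h1
  exact h1

theorem zL_odd (h2K : (2 : K) ≠ 0) (S : List (Fin 4)) (hz : IsRoot cs isCartan z) (h : cL S z % 2 ≠ 0)
    {u : ↥(twistedE6 K q)} (hu : u ∈ X φ q z) (hc : zL hφ hqq S * u = u * zL hφ hqq S) : u = 1 := by
  apply two_of hφ hqq h2K z hz u hu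
  obtain ⟨a, ha, rfl⟩ := (mem_X hφ hqq hz _).1 hu
  have h1 := conj_zL hφ hqq S hz ha
  rw [hc, mul_inv_cancel_right, neg_one_zpow_odd h] at h1
  have ok : Ok chevE6 J O φ z (-1 * a) := by
    have := Ok.mul (ok_neg_one_zpow (K := K) (φ := φ) z 1) ha
    rwa [zpow_one] at this
  nth_rewrite 2 [h1]
  rw [← x_add hφ hqq hz ha ok]
  have : a + -1 * a = 0 := by ring
  rw [this]
  exact x_zero hφ hqq hz

include hφ hqq in
theorem exists_X_ne_one (cs : CoxeterSystem CoxeterMatrix.F₄ W) (p : ℕ) [Fact p.Prime] [CharP K p]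
    (hz : IsRoot cs isCartan z) : ∃ u ∈ X φ q z, u ≠ 1 := by
  have : Finite W := Cfsg.Agent.KFacts.TwESix.Comb.finiteW cs
  obtain ⟨⟨u, hu⟩, hu1'⟩ := Subgroup.ne_bot_iff_exists_ne_one.1 (X_ne_bot (rgd cs hφ hqq p) hz)
  exact ⟨u, hu, fun h => hu1' (Subtype.ext h)⟩

theorem zL_ne_one (cs : CoxeterSystem CoxeterMatrix.F₄ W) (p : ℕ) [Fact p.Prime] [CharP K p] (h2K : (2 : K) ≠ 0)
    {S : List (Fin 4)} (h : ∃ z ∈ rts, cL S z % 2 ≠ 0) : zL hφ hqq S ≠ 1 := by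
  obtain ⟨z, hz, h⟩ := h
  intro h1
  obtain ⟨u, hu, hu1⟩ := exists_X_ne_one hφ hqq cs p ((mem_rts cs).2 hz)
  apply hu1
  apply zL_odd hφ hqq h2K S ((mem_rts cs).2 hz) h hu
  rw [h1, one_mul, mul_one]

/-- the even roots -/
def Ee (Ss : List (List (Fin 4))) : Set (Fin 4 → ℤ) := {z | z ∈ rts ∧ ∀ S ∈ Ss, cL S z % 2 = 0}

theorem cL_neg (S : List (Fin 4)) (z : Fin 4 → ℤ) : cL S (-z) = -cL S z := by
  induction S with
  | nil => rfl
  | cons i S ih =>
    rw [cL_cons, cL_cons, ih]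
    have : pairing A i (-z) = -pairing A i z := by
      rw [pairing_eq, pairing_eq]
      fin_cases i <;> simp <;> ring
    rw [this]; ring

theorem evenSet (cs : CoxeterSystem CoxeterMatrix.F₄ W) (h2K : (2 : K) ≠ 0) (Ss : List (List (Fin 4))) :
    EvenSet cs isCartan (X φ q) {y | ∃ S ∈ Ss, y = zL hφ hqq S} (Ee Ss) where
  root z hz := (mem_rts cs).2 hz.1
  neg z hz := by
    refine ⟨(mem_rts cs).1 ((mem_rts cs).2 hz.1).neg, fun S hS => ?_⟩
    have := hz.2 S hS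
    rw [cL_neg]
    omega
  even z hz u hu := by
    rw [Subgroup.mem_centralizer_iff]
    rintro _ ⟨S, hS, rfl⟩
    exact zL_even hφ hqq S ((mem_rts cs).2 hz.1) (hz.2 S hS) hu
  odd z hz hE := by
    have h1 : ∃ S ∈ Ss, cL S z % 2 ≠ 0 := by
      by_contra hcon
      push Not at hcon
      exact hE ⟨(mem_rts cs).1 hz, hcon⟩
    obtain ⟨S, hS, h⟩ := h1
    rw [eq_bot_iff]
    rintro u ⟨hu, hu2⟩
    rw [Subgroup.mem_bot]
    exact zL_odd hφ hqq h2K S hz h hu (Subgroup.mem_centralizer_iff.1 hu2 _ ⟨S, hS, rfl⟩)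

include hφ hqq in
theorem commOK (cs : CoxeterSystem CoxeterMatrix.F₄ W) : CommOK cs isCartan (X φ q) := by
  intro x y hx hy hne hxy
  refine commute_X hφ hqq hx hy (fun h => hxy ((mem_rts cs).2 h)) fun h => hne ?_
  rw [h, neg_neg]

/-! ### Subdiagrams -/

/-- The checks for a subdiagram. -/
structure SubT {m : ℕ} (f : Fin m ↪ Fin 4) (Ss : List (List (Fin 4))) (Jc : List (Fin 4)) : Prop where
  hJc : ∀ k, k ∈ Jc ↔ ∀ a, f a ≠ k
  lev : ∀ x ∈ rts, (∀ k ∈ Jc, x k = 0) → (∀ S ∈ Ss, cL S x % 2 = 0) ∧ ∃ y ∈ rts, (∀ k ∈ Jc, y k = 0) ∧ x + y ∈ rts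
  out : ∀ x ∈ rts, (∀ S ∈ Ss, cL S x % 2 = 0) → (∀ k ∈ Jc, x k = 0) ∨
    ∀ y ∈ rts, (∀ S ∈ Ss, cL S y % 2 = 0) → x + y ∉ rts
  conn : ∀ S : Finset (Fin m), S.Nonempty → S ≠ Finset.univ → ∃ a ∈ S, ∃ b, b ∉ S ∧ CoxeterMatrix.F₄ (f a) (f b) ≠ 2

section

variable {m : ℕ} {f : Fin m ↪ Fin 4} {Ss : List (List (Fin 4))} {Jc : List (Fin 4)}

theorem SubT.mem_LR (S : SubT f Ss Jc) : z ∈ LR cs isCartan f ↔ z ∈ rts ∧ ∀ k ∈ Jc, z k = 0 := by
  constructor
  · rintro ⟨h1, h2⟩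
    exact ⟨(mem_rts cs).1 h1, fun k hk => h2 k ((S.hJc k).1 hk)⟩
  · rintro ⟨h1, h2⟩
    exact ⟨(mem_rts cs).2 h1, fun k hk => h2 k ((S.hJc k).2 hk)⟩

theorem SubT.NI_eq (S : SubT f Ss Jc) (cs : CoxeterSystem CoxeterMatrix.F₄ W) :
    NI cs isCartan (Ee Ss) = LR cs isCartan f := by
  ext x
  rw [S.mem_LR]
  constructor
  · rintro ⟨⟨h1, h2⟩, y, ⟨h3, h4⟩, h5⟩
    refine ⟨h1, ?_⟩
    rcases S.out x h1 h2 with h | h
    · exact h
    · exact absurd ((mem_rts cs).1 h5) (h y h3 h4)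
  · rintro ⟨h1, h2⟩
    obtain ⟨h3, y, h4, h5, h6⟩ := S.lev x h1 h2
    exact ⟨⟨h1, h3⟩, y, ⟨h4, (S.lev y h4 h5).1⟩, (mem_rts cs).2 h6⟩

theorem SubT.conn' (S : SubT f Ss Jc) : ∀ T : Set (Fin m), T.Nonempty → T ≠ Set.univ →
    ∃ a ∈ T, ∃ b, b ∉ T ∧ CoxeterMatrix.F₄ (f a) (f b) ≠ 2 := by
  classical
  intro T h1 h2
  obtain ⟨a, ha, b, hb, h⟩ := S.conn T.toFinset (by rwa [Set.toFinset_nonempty]) (by
    intro h
    apply h2
    rw [← Set.coe_toFinset T, h, Finset.coe_univ])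
  exact ⟨a, Set.mem_toFinset.1 ha, b, fun hb' => hb (Set.mem_toFinset.2 hb'), h⟩

include hφ hqq in
theorem SubT.normalizes (S : SubT f Ss Jc) (cs : CoxeterSystem CoxeterMatrix.F₄ W) (p : ℕ) [Fact p.Prime] [CharP K p]
    (h2K : (2 : K) ≠ 0) :
    Subgroup.centralizer {y | ∃ S ∈ Ss, y = zL hφ hqq S} ≤
      Subgroup.normalizer (HL cs isCartan (X φ q) f : Set ↥(twistedE6 K q)) := by
  have : Finite W := Cfsg.Agent.KFacts.TwESix.Comb.finiteW cs
  have h1 := cent_le_norm (rgd cs hφ hqq p) (S := {y | ∃ S ∈ Ss, y = zL hφ hqq S}) (E := Ee Ss)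
    (by rintro _ ⟨T, -, rfl⟩; exact zL_mem hφ hqq T) (GG_top φ hφ hqq) (commOK hφ hqq cs) (evenSet hφ hqq cs h2K Ss)
  rw [S.NI_eq cs] at h1
  exact h1

include hφ hqq in
theorem RA_le_HL (cs : CoxeterSystem CoxeterMatrix.F₄ W) (f : Fin m ↪ Fin 4) (j : Fin m) :
    RA (X φ q) (sr (f j)) ≤ HL cs isCartan (X φ q) f :=
  sup_le (X_le_HL f (sr_mem_LR f j)) (X_le_HL f (LR_neg f (sr_mem_LR f j)))

include hqq in
theorem nn_mem_HL (cs : CoxeterSystem CoxeterMatrix.F₄ W) (f : Fin m ↪ Fin 4) (j : Fin m) :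
    nn hφ (f j) ∈ HL cs isCartan (X φ q) f := by
  rw [← P_wS hφ hqq]
  apply RA_le_HL hφ hqq cs f j
  rw [← range_P hφ hqq]
  exact ⟨_, rfl⟩

theorem zL_mem_HL (cs : CoxeterSystem CoxeterMatrix.F₄ W) (f : Fin m ↪ Fin 4) {S : List (Fin 4)}
    (hS : ∀ i ∈ S, ∃ a, f a = i) : zL hφ hqq S ∈ HL cs isCartan (X φ q) f := by
  unfold zL
  apply list_prod_mem
  intro y hy
  rw [List.mem_map] at hy
  obtain ⟨i, hi, rfl⟩ := hy
  obtain ⟨a, rfl⟩ := hS i hi
  exact RA_le_HL hφ hqq cs f a (zn_mem_RA hφ hqq (f a))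

/-! ### Perfectness -/

/-- the long roots of the subdiagram have pairing `± 2` with a short node of the subdiagram -/
def PerfOK (f : Fin m ↪ Fin 4) (Jc : List (Fin 4)) : Prop :=
  (∃ a, f a = 2) ∧ ∀ x ∈ rts, (∀ k ∈ Jc, x k = 0) → Qv x = 4 → ∃ a, 2 ≤ (f a : ℕ) ∧
    (pairing A (f a) x = 2 ∨ pairing A (f a) x = -2)

include hφ in
theorem exists_sc' (hq3 : 3 ≤ q) (hK : Fintype.card K = q ^ 2) (hP : PerfOK f Jc) (hz : IsRoot cs isCartan z)
    (h0 : ∀ k ∈ Jc, z k = 0) :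
    ∃ a : Fin m, 2 ≤ (f a : ℕ) ∧ ∃ d : K, d ≠ 0 ∧ sc φ (f a) z d ≠ 1 := by
  obtain ⟨g, hg0, hg⟩ := exists_prim hK
  have hq9 : 3 * q ≤ q ^ 2 := by nlinarith
  have hn2 : g ^ 2 ≠ 1 := fun h => by
    have := Nat.le_of_dvd (by norm_num) (hg 2 h)
    omega
  have hφg : φ g ≠ 1 := fun h => by
    rw [hφ] at h
    have := Nat.le_of_dvd (by omega) (hg q h)
    omega
  have hφg2 : (φ g) ^ 2 ≠ 1 := fun h => by
    rw [hφ, ← pow_mul] at h
    have := Nat.le_of_dvd (by omega) (hg _ h)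
    omega
  have hg1 : g ≠ 1 := fun h => hn2 (by rw [h, one_pow])
  have hgg : g * φ g ≠ 1 := fun h => by
    rw [hφ, ← pow_succ'] at h
    have := Nat.le_of_dvd (by omega) (hg _ h)
    omega
  have hgd : g * (φ g)⁻¹ ≠ 1 := fun h => by
    have h1 : φ g = g := by
      have h2 : φ g ≠ 0 := (map_ne_zero φ).2 hg0
      field_simp at h
      exact h.symm
    rw [hφ] at h1
    have h2 : g ^ (q - 1) = 1 := by
      have h3 : g ^ (q - 1) * g = 1 * g := by rw [← pow_succ, Nat.sub_add_cancel (by omega), h1, one_mul]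
      exact mul_right_cancel₀ hg0 h3
    have := Nat.le_of_dvd (by omega) (hg _ h2)
    omega
  rcases long_or_short hz with hl | hs
  · obtain ⟨a, ha, h1⟩ := hP.2 z ((mem_rts cs).1 hz) h0 hl
    refine ⟨a, ha, g, hg0, ?_⟩
    unfold sc
    rw [if_neg (by omega), if_pos hl]
    rcases h1 with h1 | h1
    · rw [h1]
      norm_num
      exact hgg
    · rw [h1]
      norm_num
      intro h2
      apply hgg
      have h3 : (g * φ g)⁻¹ = 1 := by rw [mul_inv]; rw [mul_comm]; exact h2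
      exact inv_eq_one.1 h3
  · obtain ⟨a, ha⟩ := hP.1
    refine ⟨a, by rw [ha]; decide, g, hg0, ?_⟩
    rw [ha]
    unfold sc
    rw [if_neg (by decide), if_neg (fun h => not_both h hs)]
    split_ifs
    · exact_mod_cast hn2
    · exact hφg
    · exact hgd
    · intro h
      apply hφg2
      rw [zpow_neg, inv_eq_one] at h
      exact_mod_cast h
    · intro h
      exact hg1 (inv_eq_one.1 h)

include hφ hqq in
theorem hh_mem_HL (cs : CoxeterSystem CoxeterMatrix.F₄ W) (f : Fin m ↪ Fin 4) {a : Fin m} (ha : 2 ≤ (f a : ℕ))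
    {d : K} (hd : d ≠ 0) : hh φ q (f a) d ∈ HL cs isCartan (X φ q) f := by
  have h1 : ∀ j : Fin 4, 2 ≤ (j : ℕ) → (rest j).length = 1 := by decide
  have hd' : d ∈ Fx φ ((rest (f a)).length + 1) := by
    rw [mem_Fx, h1 _ ha]
    exact phi_phi hφ hqq d
  have h2 := P_hS hφ hqq (f a) (d := ⟨d, hd'⟩) (fun h => hd (congrArg Subtype.val h)) (Or.inl ha)
  have h3 : hh φ q (f a) d = P hφ hqq (f a) (hS ⟨d, hd'⟩) := h2.symm
  rw [h3]
  apply RA_le_HL hφ hqq cs f a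
  rw [← range_P hφ hqq]
  exact ⟨_, rfl⟩

include hφ hqq in
theorem perf (S : SubT f Ss Jc) (cs : CoxeterSystem CoxeterMatrix.F₄ W) (hq3 : 3 ≤ q) (hK : Fintype.card K = q ^ 2)
    (hP : PerfOK f Jc) : ∀ x ∈ LR cs isCartan f,
      X φ q x ≤ ⁅HL cs isCartan (X φ q) f, HL cs isCartan (X φ q) f⁆ := by
  intro z hzL u hu
  obtain ⟨hz', h0⟩ := (S.mem_LR (cs := cs)).1 hzL
  have hz : IsRoot cs isCartan z := (mem_rts cs).2 hz'
  obtain ⟨a, ha, rfl⟩ := (mem_X hφ hqq hz _).1 hu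
  obtain ⟨j, hj, d, hd, h1⟩ := exists_sc' hφ hq3 hK hP hz h0
  have h2 : sc φ (f j) z d - 1 ≠ 0 := sub_ne_zero.2 h1
  have hsc := (conj_hh hφ hqq hz hd (Or.inl hj) ha).1
  have hb : Ok chevE6 J O φ z ((sc φ (f j) z d - 1)⁻¹ * a) :=
    Ok.mul (ok_inv (ok_sub hsc (ok_one z))) ha
  have h3 := (conj_hh hφ hqq hz hd (Or.inl hj) hb).2
  have h4 : x φ q z a = ⁅hh φ q (f j) d, x φ q z ((sc φ (f j) z d - 1)⁻¹ * a)⁆ := by
    rw [commutatorElement_def, h3, eq_mul_inv_iff_mul_eq, ← x_add hφ hqq hz ha hb]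
    congr 1
    field_simp
    ring
  rw [h4]
  exact Subgroup.commutator_mem_commutator (hh_mem_HL hφ hqq cs f hj hd) (X_le_HL f hzL (x_mem hφ hqq hz hb))

include hφ hqq in
theorem SubT.isQuasisimple (S : SubT f Ss Jc) (cs : CoxeterSystem CoxeterMatrix.F₄ W) (p : ℕ) [Fact p.Prime]
    [CharP K p] (hq3 : 3 ≤ q) (hK : Fintype.card K = q ^ 2) (hP : PerfOK f Jc) :
    Cfsg.IsQuasisimple ↥(HL cs isCartan (X φ q) f) := by
  have : Finite W := Cfsg.Agent.KFacts.TwESix.Comb.finiteW cs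
  obtain ⟨a, ha⟩ := hP.1
  have : Nonempty (Fin m) := ⟨a⟩
  exact isQuasisimple_HL f (rgd cs hφ hqq p) (nn_mem_HL hφ hqq cs f) S.conn'
    (fun a ha b hb => comm_T ha hb) (perf hφ hqq S cs hq3 hK hP)

end

/-! ### Orders -/

include hφ hqq in
theorem card_X_sr' (i : Fin 4) : Nat.card (X φ q (sr i)) = Nat.card (Fx φ ((rest i).length + 1)) := by
  have hinj : Function.Injective fun a : Fx φ ((rest i).length + 1) => P hφ hqq i (up a) := by
    intro a b hab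
    have h1 : P hφ hqq i (up (a - b)) = 1 := by
      have h2 : up (a - b) * up b = up a := by
        rw [← Cfsg.Agent.UGT.U2.FOne.SLInj.up_add, sub_add_cancel]
      have h3 := congrArg (P hφ hqq i) h2
      rw [map_mul] at h3
      have h4 : P hφ hqq i (up a) = P hφ hqq i (up b) := hab
      rw [h4] at h3
      exact mul_eq_right.1 h3
    exact sub_eq_zero.1 (P_up_inj hφ hqq i h1)
  have h1 : (X φ q (sr i) : Set ↥(twistedE6 K q)) = Set.range fun a : Fx φ ((rest i).length + 1) => P hφ hqq i (up a) := by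
    ext u
    rw [SetLike.mem_coe, mem_X_sr hφ hqq i]
    rfl
  have h2 : Nat.card (X φ q (sr i)) = Nat.card (Set.range fun a : Fx φ ((rest i).length + 1) => P hφ hqq i (up a)) := by
    rw [← h1]; rfl
  rw [h2]
  exact (Nat.card_congr (Equiv.ofInjective _ hinj)).symm

include hφ hqq in
theorem card_X (p : ℕ) [Fact p.Prime] [CharP K p] (hq2 : 2 ≤ q) (hK : Fintype.card K = q ^ 2)
    (hz : IsRoot cs isCartan z) : Nat.card (X φ q z) = q ^ (if bf z z = 4 then 1 else 2) := by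
  have : Finite W := Cfsg.Agent.KFacts.TwESix.Comb.finiteW cs
  have hrep : ∀ (w : W) {x : Fin 4 → ℤ}, IsRoot cs isCartan x → Nat.card (X φ q (rep cs isCartan w x)) =
      Nat.card (X φ q x) := by
    intro w x hx
    obtain ⟨k, hk⟩ := exists_rp cs (rgd cs hφ hqq p).nsys w
    rw [← (rgd cs hφ hqq p).conj_rp hk hx]
    exact Cfsg.Agent.Nodes.CardSup.card_cj _
  rcases Cfsg.Agent.KFacts.TwESix.Comb.norm cs hz with h | h
  · rw [if_pos h, pow_one]
    obtain ⟨w, rfl⟩ := Cfsg.Agent.KFacts.TwESix.Comb.exists_rep_long cs hz h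
    rw [hrep w (isRoot_sr cs isCartan 0), card_X_sr' hφ hqq]
    exact card_Fq hφ hq2 hK
  · rw [if_neg (by omega)]
    obtain ⟨w, rfl⟩ := Cfsg.Agent.KFacts.TwESix.Comb.exists_rep_short cs hz h
    rw [hrep w (isRoot_sr cs isCartan 3), card_X_sr' hφ hqq]
    rw [← hK, ← Nat.card_eq_fintype_card]
    have h3 : ∀ a : K, a ∈ Fx φ ((rest 3).length + 1) := fun a => by
      rw [mem_Fx]
      exact phi_phi hφ hqq a
    exact Nat.card_congr (Equiv.subtypeUnivEquiv h3)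

/-! ### The two subdiagrams -/

/-- the nodes `1, 2, 3` -/
def f3 : Fin 3 ↪ Fin 4 := ⟨![1, 2, 3], by decide⟩
/-- the nodes `1, 2` -/
def f2 : Fin 2 ↪ Fin 4 := ⟨![1, 2], by decide⟩

set_option maxRecDepth 20000 in
theorem sub3 : SubT f3 [[1, 3]] [0] where
  hJc := by decide
  lev := by decide +kernel
  out := by decide +kernel
  conn := by decide +kernel

set_option maxRecDepth 20000 in
theorem sub2 : SubT f2 [[1, 3], [1, 2, 3]] [0, 3] where
  hJc := by decide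
  lev := by decide +kernel
  out := by decide +kernel
  conn := by decide +kernel

set_option maxRecDepth 20000 in
theorem perf3 : PerfOK f3 [0] := by
  refine ⟨⟨1, rfl⟩, ?_⟩
  decide +kernel

set_option maxRecDepth 20000 in
theorem perf2 : PerfOK f2 [0, 3] := by
  refine ⟨⟨1, rfl⟩, ?_⟩
  decide +kernel

/-- the positive roots of the subdiagram `f3` -/
def pos3 : Finset (Fin 3 → ℤ) :=
  {![1, 0, 0], ![1, 2, 0], ![1, 2, 2], ![0, 0, 1], ![0, 1, 0], ![0, 1, 1], ![1, 1, 0], ![1, 1, 1], ![1, 2, 1]}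

theorem iota3 (c : Fin 3 → ℤ) : iota (fun j => sr (f3 j)) c = (![0, c 0, c 1, c 2] : Fin 4 → ℤ) := by
  funext k
  fin_cases k
  · exact iota_levi_apply_ne f3 c (by decide)
  · exact iota_levi_apply f3 c 0
  · exact iota_levi_apply f3 c 1
  · exact iota_levi_apply f3 c 2

set_option maxRecDepth 20000 in
theorem pos3_tab : (∀ c ∈ pos3, (![0, c 0, c 1, c 2] : Fin 4 → ℤ) ∈ rts ∧ ∀ i, 0 ≤ c i) ∧
    ∀ x ∈ rts, x 0 = 0 → (∀ i, 0 ≤ x i) → (![x 1, x 2, x 3] : Fin 3 → ℤ) ∈ pos3 := by decide +kernel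

theorem pos3_spec (c : Fin 3 → ℤ) : c ∈ pos3 ↔
    IsRoot (csL CoxeterMatrix.F₄ f3) (levi_isCartan f3 isCartan) c ∧ 0 ≤ c := by
  have : Finite CoxeterMatrix.F₄.Group := Cfsg.Agent.KFacts.TwESix.Comb.finiteW CoxeterMatrix.F₄.toCoxeterSystem
  rw [isRoot_iota (cs := CoxeterMatrix.F₄.toCoxeterSystem) (h := isCartan) f3, mem_rts, iota3]
  constructor
  · intro h
    obtain ⟨h1, h2⟩ := pos3_tab.1 c h
    exact ⟨h1, fun i => h2 i⟩
  · rintro ⟨h1, h2⟩
    have h3 := pos3_tab.2 _ h1 rfl (by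
      intro i
      fin_cases i
      · exact le_rfl
      · exact h2 0
      · exact h2 1
      · exact h2 2)
    have e : (![(![0, c 0, c 1, c 2] : Fin 4 → ℤ) 1, (![0, c 0, c 1, c 2] : Fin 4 → ℤ) 2,
        (![0, c 0, c 1, c 2] : Fin 4 → ℤ) 3] : Fin 3 → ℤ) = c := by
      funext i
      fin_cases i <;> rfl
    rwa [e] at h3

theorem sum3 : (∑ c ∈ pos3, (if bf (![0, c 0, c 1, c 2] : Fin 4 → ℤ) (![0, c 0, c 1, c 2] : Fin 4 → ℤ) = 4 then 1 else 2)) =
    15 := by decide +kernel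

include hφ hqq in
theorem card3 (p : ℕ) [Fact p.Prime] [CharP K p] (hq3 : 3 ≤ q) (hK : Fintype.card K = q ^ 2) :
    p ^ (Nat.card (↥(HL CoxeterMatrix.F₄.toCoxeterSystem isCartan (X φ q) f3) ⧸
      Subgroup.center ↥(HL CoxeterMatrix.F₄.toCoxeterSystem isCartan (X φ q) f3))).factorization p = q ^ 15 ∧
    q ^ 15 * q ^ 15 ≤ Nat.card (↥(HL CoxeterMatrix.F₄.toCoxeterSystem isCartan (X φ q) f3) ⧸
      Subgroup.center ↥(HL CoxeterMatrix.F₄.toCoxeterSystem isCartan (X φ q) f3)) := by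
  have : Finite CoxeterMatrix.F₄.Group := Cfsg.Agent.KFacts.TwESix.Comb.finiteW CoxeterMatrix.F₄.toCoxeterSystem
  refine card_HL f3 (rgd CoxeterMatrix.F₄.toCoxeterSystem hφ hqq p) (nn_mem_HL hφ hqq _ f3) sub3.conn'
    (fun a ha b hb => comm_T ha hb) (perf hφ hqq sub3 _ hq3 hK perf3) pos3 pos3_spec ?_
  rw [← sum3, ← Finset.prod_pow_eq_pow_sum]
  refine Finset.prod_congr rfl fun c hc => ?_
  rw [iota3]
  exact card_X hφ hqq (cs := CoxeterMatrix.F₄.toCoxeterSystem) p (by omega) hK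
    ((mem_rts _).2 (pos3_tab.1 c hc).1)

/-! ### The result -/

set_option maxRecDepth 20000 in
theorem tab_rk : ∀ S ∈ ([[0], [1], [2], [0] ++ [1], [0] ++ [2], [1] ++ [2], ([0] ++ [1]) ++ [2], [1, 3]] :
    List (List (Fin 4))), ∃ z ∈ rts, cL S z % 2 ≠ 0 := by decide +kernel

set_option maxRecDepth 20000 in
theorem tab_t : ∃ z ∈ rts, z 0 = 0 ∧ cL [1, 2, 3] z % 2 ≠ 0 := by decide +kernel

open Subgroup in
include hφ hqq in
/-- **A component of the centralizer of an involution of `²E₆(q)`.** -/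
theorem compData (p : ℕ) [Fact p.Prime] [CharP K p] (h2K : (2 : K) ≠ 0) (hq3 : 3 ≤ q)
    (hK : Fintype.card K = q ^ 2) : CompData p q 15 ↥(twistedE6 K q) := by
  classical
  let cs : CoxeterSystem CoxeterMatrix.F₄ CoxeterMatrix.F₄.Group := CoxeterMatrix.F₄.toCoxeterSystem
  have hfin : Finite ↥(twistedE6 K q) := inferInstance
  obtain ⟨L, hL⟩ : ∃ L, L = HL cs isCartan (X φ q) f3 := ⟨_, rfl⟩
  obtain ⟨L', hL'⟩ : ∃ L', L' = HL cs isCartan (X φ q) f2 := ⟨_, rfl⟩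
  have hLq : Cfsg.IsQuasisimple ↥L := by rw [hL]; exact sub3.isQuasisimple hφ hqq cs p hq3 hK perf3
  have hLq' : Cfsg.IsQuasisimple ↥L' := by rw [hL']; exact sub2.isQuasisimple hφ hqq cs p hq3 hK perf2
  have hLn : centralizer {y | ∃ S ∈ ([[1, 3]] : List (List (Fin 4))), y = zL hφ hqq S} ≤
      normalizer (L : Set ↥(twistedE6 K q)) := by
    rw [hL]; exact sub3.normalizes hφ hqq cs p h2K
  have hLn' : centralizer {y | ∃ S ∈ ([[1, 3], [1, 2, 3]] : List (List (Fin 4))), y = zL hφ hqq S} ≤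
      normalizer (L' : Set ↥(twistedE6 K q)) := by
    rw [hL']; exact sub2.normalizes hφ hqq cs p h2K
  have hcard := card3 hφ hqq p hq3 hK
  rw [← hL] at hcard
  have hev : ∀ {T : List (List (Fin 4))} {j : ℕ} {g : Fin j ↪ Fin 4} {Jg : List (Fin 4)},
      SubT g T Jg → ∀ S ∈ T, HL cs isCartan (X φ q) g ≤ centralizer ({zL hφ hqq S} : Set _) := by
    intro T j g Jg Sg S hS
    refine RGD.Sup_le fun x hx u hu => ?_
    obtain ⟨h1, h2⟩ := (Sg.mem_LR (cs := cs)).1 hx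
    rw [mem_centralizer_singleton_iff]
    exact (zL_even hφ hqq S ((mem_rts cs).2 h1) ((Sg.lev x h1 h2).1 S hS) hu).symm
  have hLz : L ≤ centralizer ({zL hφ hqq [1, 3]} : Set ↥(twistedE6 K q)) := by
    rw [hL]; exact hev sub3 _ List.mem_cons_self
  have hLt' : L' ≤ centralizer ({zL hφ hqq [1, 2, 3]} : Set ↥(twistedE6 K q)) := by
    rw [hL']; exact hev sub2 _ (List.mem_cons_of_mem _ List.mem_cons_self)
  have hL'L : L' ≤ L := by
    rw [hL, hL']
    refine RGD.Sup_le fun x hx => X_le_HL f3 ?_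
    rw [sub2.mem_LR] at hx
    rw [sub3.mem_LR]
    refine ⟨hx.1, fun k hk => hx.2 k ?_⟩
    rw [List.mem_singleton] at hk
    rw [hk]
    exact List.mem_cons_self
  have htL : zL hφ hqq [1, 2, 3] ∈ L := by rw [hL]; exact zL_mem_HL hφ hqq cs f3 (by decide)
  have hz1 : zL hφ hqq [1, 3] ≠ 1 := zL_ne_one hφ hqq cs p h2K (tab_rk _ (by decide))
  have hord : orderOf (zL hφ hqq [1, 3]) = 2 := by
    rw [orderOf_eq_prime_iff]
    exact ⟨by rw [pow_two, zL_sq], hz1⟩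
  have hcomp : Cfsg.IsComponentOf L (centralizer ({zL hφ hqq [1, 3]} : Set ↥(twistedE6 K q))) := by
    refine OddTab.isComponentOf_of_normalized hLz hLq fun g hg x hx => ?_
    have h3 : g ∈ centralizer {y | ∃ S ∈ ([[1, 3]] : List (List (Fin 4))), y = zL hφ hqq S} := by
      rw [Subgroup.mem_centralizer_iff]
      rintro _ ⟨S, hS, rfl⟩
      rw [List.mem_singleton] at hS
      subst hS
      rw [mem_centralizer_singleton_iff] at hg
      exact hg.symm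
    exact (mem_normalizer_iff.1 (hLn h3) x).1 hx
  have hinv : CompInv (↥L ⧸ center ↥L) := by
    have e := subgroupOfEquivOfLe hL'L
    refine compInv_quot (t := ⟨zL hφ hqq [1, 2, 3], htL⟩) (M := L'.subgroupOf L) (Subtype.ext (zL_sq hφ hqq _)) ?_
      (Cfsg.Agent.CpQuot.Congr.isQuasisimple_iff e |>.2 hLq') ?_ ?_
    · intro hcen
      obtain ⟨z, hz, hz0, hodd⟩ := tab_t
      obtain ⟨u, hu, hu1⟩ := exists_X_ne_one hφ hqq cs p ((mem_rts cs).2 hz)
      have h5 : u ∈ L := by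
        rw [hL]
        refine X_le_HL f3 ?_ hu
        rw [sub3.mem_LR]
        refine ⟨hz, fun k hk => ?_⟩
        rw [List.mem_singleton] at hk
        rw [hk]; exact hz0
      have h6 := congrArg Subtype.val (mem_center_iff.1 hcen ⟨_, h5⟩)
      exact hu1 (zL_odd hφ hqq h2K _ ((mem_rts cs).2 hz) hodd hu h6.symm)
    · intro x hx
      rw [mem_centralizer_singleton_iff]
      have h3 := hLt' (mem_subgroupOf.1 hx)
      rw [mem_centralizer_singleton_iff] at h3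
      exact Subtype.ext h3
    · intro g hg
      rw [mem_centralizer_singleton_iff] at hg
      have h3 : (g : ↥(twistedE6 K q)) ∈
          centralizer {y | ∃ S ∈ ([[1, 3], [1, 2, 3]] : List (List (Fin 4))), y = zL hφ hqq S} := by
        rw [Subgroup.mem_centralizer_iff]
        rintro _ ⟨S, hS, rfl⟩
        simp only [List.mem_cons, List.not_mem_nil, or_false] at hS
        rcases hS with rfl | rfl
        · have h4 := hLz g.2
          rw [mem_centralizer_singleton_iff] at h4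
          exact h4.symm
        · exact (congrArg Subtype.val hg).symm
      rw [mem_normalizer_iff]
      intro x
      exact mem_normalizer_iff.1 (hLn' h3) (x : ↥(twistedE6 K q))
  refine ⟨zL hφ hqq [1, 3], hord, ?_, L, hcomp, hinv, hcard.1, hcard.2⟩
  have key : ∀ {S : List (Fin 4)}, S ∈ ([[0], [1], [2], [0] ++ [1], [0] ++ [2], [1] ++ [2], ([0] ++ [1]) ++ [2], [1, 3]] :
    List (List (Fin 4))) → zL hφ hqq S ≠ 1 := fun {S} hS => zL_ne_one hφ hqq cs p h2K (tab_rk _ hS)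
  have hm : ∀ S, zL hφ hqq S ∈ centralizer ({zL hφ hqq [1, 3]} : Set ↥(twistedE6 K q)) := fun S => by
    rw [mem_centralizer_singleton_iff]
    exact zL_comm hφ hqq _ _
  refine rank_of_three (x := ⟨zL hφ hqq [0], hm _⟩) (y := ⟨zL hφ hqq [1], hm _⟩) (z := ⟨zL hφ hqq [2], hm _⟩)
    (Subtype.ext (zL_sq hφ hqq _)) (Subtype.ext (zL_sq hφ hqq _)) (Subtype.ext (zL_sq hφ hqq _))
    (Subtype.ext (zL_comm hφ hqq _ _)) (Subtype.ext (zL_comm hφ hqq _ _)) (Subtype.ext (zL_comm hφ hqq _ _))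
    ?_ ?_ ?_ ?_ ?_ ?_ ?_
  · exact fun e => key (S := [0]) (by decide) (congrArg Subtype.val e)
  · exact fun e => key (S := [1]) (by decide) (congrArg Subtype.val e)
  · exact fun e => key (S := [2]) (by decide) (congrArg Subtype.val e)
  · exact fun e => key (S := [0] ++ [1]) (by decide) ((zL_append hφ hqq _ _).trans (congrArg Subtype.val e))
  · exact fun e => key (S := [0] ++ [2]) (by decide) ((zL_append hφ hqq _ _).trans (congrArg Subtype.val e))
  · exact fun e => key (S := [1] ++ [2]) (by decide) ((zL_append hφ hqq _ _).trans (congrArg Subtype.val e))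
  · refine fun e => key (S := ([0] ++ [1]) ++ [2]) (by decide) ?_
    rw [zL_append hφ hqq ([0] ++ [1]) [2], zL_append hφ hqq [0] [1]]
    exact congrArg Subtype.val e

end Cfsg.Agent.GenExc.TwE
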